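import Groth.Agent.W7ModH.Basic
import Groth.Agent.SiteCoh.Criterion
import Mathlib.Algebra.Category.ModuleCat.Presheaf.Free
import Groth.Prelude.Def_ModSite

/-!
`Ext` out of an object corepresenting the same functor as an abelian sheaf; free modules on sheaves of sets.
-/

set_option autoImplicit false
set_option backward.isDefEq.respectTransparency false
set_option backward.isDefEq.respectTransparency.types false
set_option backward.defeqAttrib.useBackward true
set_option linter.style.haveILetI false

universe u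

open CategoryTheory Category Limits Opposite Abelian

namespace Groth.Agent.ModExt

open Groth.Agent.SiteCoh

variable {C : Type u} [SmallCategory C] {J : GrothendieckTopology C} {R : Sheaf J RingCat.{u}}

/-- A natural bijection between hom functors of additive functors is additive. -/
theorem map_add_of_natural {A B : Type*} [Category A] [Category B] [Preadditive A] [Preadditive B]
    [HasBinaryBiproducts A] (T : A ⥤ B) [T.Additive] {P : A} {Q : B}
    (φ : ∀ M : A, (P ⟶ M) ≃ (Q ⟶ T.obj M))
    (hφ : ∀ (M N : A) (s : P ⟶ M) (f : M ⟶ N), φ N (s ≫ f) = φ M s ≫ T.map f)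
    {M : A} (a b : P ⟶ M) : φ M (a + b) = φ M a + φ M b := by
  have ha : φ M a = φ _ (biprod.lift a b) ≫ T.map biprod.fst := by rw [← hφ, biprod.lift_fst]
  have hb : φ M b = φ _ (biprod.lift a b) ≫ T.map biprod.snd := by rw [← hφ, biprod.lift_snd]
  have hab : a + b = biprod.lift a b ≫ (biprod.fst + biprod.snd) := by
    rw [Preadditive.comp_add, biprod.lift_fst, biprod.lift_snd]
  rw [hab, hφ, T.map_add, Preadditive.comp_add, ha, hb]

variable (P : SheafOfModules.{u} R) (Q : Sheaf J AddCommGrpCat.{u})
  (φ : ∀ M : SheafOfModules.{u} R, (P ⟶ M) ≃ (Q ⟶ (SheafOfModules.toSheaf R).obj M))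
  (hφ : ∀ (M N : SheafOfModules.{u} R) (s : P ⟶ M) (f : M ⟶ N),
    φ N (s ≫ f) = φ M s ≫ (SheafOfModules.toSheaf R).map f)

/-- additive form -/
noncomputable def corepEquiv (M : SheafOfModules.{u} R) :
    (P ⟶ M) ≃+ (Q ⟶ (SheafOfModules.toSheaf R).obj M) :=
  { φ M with map_add' := fun a b => map_add_of_natural _ φ hφ a b }

variable [HasExt.{u} (SheafOfModules.{u} R)]

include hφ in
/-- `Ext(P, M) ≅ Ext(Q, M_ab)` when `Q` kills injective modules in positive degrees -/
theorem nonempty_extEquiv
    (hI : ∀ (I : SheafOfModules.{u} R), Injective I → ∀ k : ℕ,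
      Subsingleton (Ext Q ((SheafOfModules.toSheaf R).obj I) (k + 1)))
    (M : SheafOfModules.{u} R) (n : ℕ) :
    Nonempty (Ext P M n ≃+ Ext Q ((SheafOfModules.toSheaf R).obj M) n) := by
  let e := corepEquiv P Q φ hφ
  induction n generalizing M with
  | zero => exact ⟨(Ext.addEquiv₀.trans (e M)).trans Ext.addEquiv₀.symm⟩
  | succ n ih =>
    haveI := ModSiteGro.isGrothendieckAbelian R
    let T := SheafOfModules.toSheaf R
    let S := embedSeq M
    haveI hinj : Injective S.X₂ := embedSeq_injective M
    haveI hI' : ∀ k : ℕ, Subsingleton (Ext P S.X₂ (k + 1)) :=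
      fun k => subsingleton_ext_injective _ _ k
    have hS : S.ShortExact := embedSeq_shortExact M
    have hTS : (S.map T).ShortExact := hS.map_of_exact T
    have hI₂ : ∀ k : ℕ, Subsingleton (Ext Q (S.map T).X₂ (k + 1)) := hI S.X₂ hinj
    obtain _ | m := n
    · let δ := W7ModH.delta hS P
      let δ' := (W7ModH.delta hTS Q).comp (e S.X₃).toAddMonoidHom
      have hδ : Function.Surjective δ := W7ModH.delta_surjective hS _
      have hδ' : Function.Surjective δ' := by
        haveI := hI₂ 0
        exact (W7ModH.delta_surjective hTS _).comp (e S.X₃).surjective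
      have hker : δ.ker = δ'.ker := by
        ext ψ₀
        rw [W7ModH.mem_ker_delta hS]
        refine Iff.trans ?_ (W7ModH.mem_ker_delta hTS Q (e S.X₃ ψ₀)).symm
        constructor
        · rintro ⟨ψ, rfl⟩
          exact ⟨e S.X₂ ψ, (hφ S.X₂ S.X₃ ψ S.g).symm⟩
        · rintro ⟨ψ, hψ⟩
          refine ⟨(e S.X₂).symm ψ, (e S.X₃).injective ((hφ S.X₂ S.X₃ _ S.g).trans ?_)⟩
          exact (congrArg (· ≫ T.map S.g) ((e S.X₂).apply_symm_apply ψ)).trans hψ
      exact ⟨((QuotientAddGroup.quotientKerEquivOfSurjective δ hδ).symm.trans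
        (QuotientAddGroup.quotientAddEquivOfEq hker)).trans
        (QuotientAddGroup.quotientKerEquivOfSurjective δ' hδ')⟩
    · obtain ⟨ee⟩ := ih S.X₃
      haveI := hI₂ m
      haveI := hI₂ (m + 1)
      exact ⟨((shiftEquiv hS P (m + 1)).symm.trans ee).trans (shiftEquiv hTS Q (m + 1))⟩

end Groth.Agent.ModExt

namespace Groth.Agent.ModExt

variable {C : Type u} [SmallCategory C] {J : GrothendieckTopology C} (O : Sheaf J CommRingCat.{u})
  (K : Cᵒᵖ ⥤ Type u)

/-- maps out of the free module and the free abelian sheaf on a presheaf of sets -/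
noncomputable def freeEquiv (M : ModSite.Mod O) :
    ((ModSite.sheafify O).obj ((PresheafOfModules.free (ModSite.ringSh O).obj).obj K) ⟶ M) ≃
      ((presheafToSheaf J AddCommGrpCat.{u}).obj (K ⋙ AddCommGrpCat.free.{u}) ⟶
        (SheafOfModules.toSheaf (ModSite.ringSh O)).obj M) :=
  (((PresheafOfModules.freeAdjunction (ModSite.ringSh O).obj).comp
    (PresheafOfModules.sheafificationAdjunction.{u} (R := ModSite.ringSh O)
      (𝟙 (ModSite.ringSh O).obj))).homEquiv K M).trans
    (SiteCoh.freeHom J K ((SheafOfModules.toSheaf (ModSite.ringSh O)).obj M)).symm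

theorem freeEquiv_comp (M N : ModSite.Mod O)
    (s : (ModSite.sheafify O).obj ((PresheafOfModules.free (ModSite.ringSh O).obj).obj K) ⟶ M)
    (f : M ⟶ N) :
    freeEquiv O K N (s ≫ f) = freeEquiv O K M s ≫ (SheafOfModules.toSheaf (ModSite.ringSh O)).map f := by
  apply (SiteCoh.freeHom J K _).injective
  rw [SiteCoh.freeHom_comp]
  refine Eq.trans ((SiteCoh.freeHom J K _).apply_symm_apply _) ?_
  refine Eq.trans ?_ (congrArg (· ≫ Functor.whiskerRight
    ((SheafOfModules.toSheaf (ModSite.ringSh O)).map f).hom (forget AddCommGrpCat.{u}))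
    ((SiteCoh.freeHom J K _).apply_symm_apply _)).symm
  exact ((PresheafOfModules.freeAdjunction (ModSite.ringSh O).obj).comp
    (PresheafOfModules.sheafificationAdjunction.{u} (R := ModSite.ringSh O)
      (𝟙 (ModSite.ringSh O).obj))).homEquiv_naturality_right s f

/-- `H^p(K, F)` computed by modules -/
theorem ext_free_iso_HK [HasExt.{u} (ModSite.Mod O)] (K : Sheaf J (Type u)) (F : ModSite.Mod O) (p : ℕ) :
    Nonempty (Abelian.Ext ((ModSite.sheafify O).obj ((PresheafOfModules.free (ModSite.ringSh O).obj).obj K.obj)) F p ≃+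
      CohCx.HK K (ModSite.toAb F) p) :=
  nonempty_extEquiv _ _ (freeEquiv O K.obj) (freeEquiv_comp O K.obj)
    (fun I hI k => haveI := hI; W7TotAcyc.isTotallyAcyclic_injective_module (ModSite.ringSh O) I K k) F p

end Groth.Agent.ModExt
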